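import Groth.Agent.NegTwistLib.Main
import Groth.Agent.PicPnLib.BaseChange
import Groth.Agent.AmpleThLib.FiniteSet
import Mathlib.Algebra.Module.Submodule.Union
import Mathlib.LinearAlgebra.Eigenspace.Triangularizable

/-!
# A pencil missing the associated points lowers the space of sections
-/

set_option autoImplicit false
set_option linter.style.haveILetI false
universe u

open CategoryTheory CategoryTheory.Limits AlgebraicGeometry TopologicalSpace Opposite
open AmpleLib (res GenAt GenOn shT)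
open TwistLib (genSet)

noncomputable section

namespace PencilLib

variable {k : Type u} [Field k] {X : Scheme.{u}} [X.Over (Spec (CommRingCat.of k))]

/-- The constants. -/
def cst (r : k) : Γ(X, ⊤) := Coh.toGlobal (X ↘ (Spec (CommRingCat.of k))) r

variable {L : X.Modules}

theorem genSet_iff (hL : PicF.IsInvertible L) {U : X.Opens} {e : Γ(L, U)} (he : GenOn L e) (σ : Γ(L, ⊤))
    {r : Γ(X, U)} (hr : r • e = res L le_top σ) {x : X} (hx : x ∈ U) :
    x ∈ genSet hL σ ↔ IsUnit (X.presheaf.germ U x hx r) := by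
  rw [← Scheme.mem_basicOpen X r x hx, ← AmpleThLib.mem_genSet_coeff hL σ he hr]
  exact ⟨fun h => ⟨h, hx⟩, fun h => h.1⟩

/-- The linear combination of a family of sections. -/
def comb {ι : Type*} [Fintype ι] (σ : ι → Γ(L, ⊤)) (c : ι → k) : Γ(L, ⊤) := ∑ i, (cst (c i) : Γ(X, ⊤)) • σ i

theorem cst_add (a b : k) : (cst (a + b) : Γ(X, ⊤)) = cst a + cst b := map_add _ a b
theorem cst_mul (a b : k) : (cst (a * b) : Γ(X, ⊤)) = cst a * cst b := map_mul _ a b
theorem cst_one : (cst (1 : k) : Γ(X, ⊤)) = 1 := map_one _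
theorem cst_zero : (cst (0 : k) : Γ(X, ⊤)) = 0 := map_zero _

theorem comb_add {ι : Type*} [Fintype ι] (σ : ι → Γ(L, ⊤)) (a b : ι → k) :
    comb σ (a + b) = comb σ a + comb σ b := by
  simp only [comb, Pi.add_apply, cst_add, add_smul, Finset.sum_add_distrib]

theorem comb_smul {ι : Type*} [Fintype ι] (σ : ι → Γ(L, ⊤)) (a : k) (b : ι → k) :
    comb σ (a • b) = (cst a : Γ(X, ⊤)) • comb σ b := by
  simp only [comb, Pi.smul_apply, smul_eq_mul, cst_mul, mul_smul, Finset.smul_sum]

theorem comb_single {ι : Type*} [Fintype ι] [DecidableEq ι] (σ : ι → Γ(L, ⊤)) (i : ι) :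
    comb σ (Pi.single i (1 : k)) = σ i := by
  refine (Finset.sum_eq_single i (fun j _ hj => ?_) (fun h => absurd (Finset.mem_univ i) h)).trans ?_
  · rw [Pi.single_eq_of_ne hj, cst_zero, zero_smul]
  · rw [Pi.single_eq_same, cst_one, one_smul]

/-- The combinations vanishing at a point form a subspace. -/
theorem exists_vanishing (hL : PicF.IsInvertible L) {ι : Type*} [Fintype ι] (σ : ι → Γ(L, ⊤)) (x : X) :
    ∃ W : Submodule k (ι → k), ∀ c, c ∈ W ↔ x ∉ genSet hL (comb σ c) := by
  obtain ⟨U, e, hxU, he⟩ := TwistLib.exists_genOn hL x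
  choose a ha using fun s : Γ(L, ⊤) => AmpleThLib.exists_coeff s he
  have hinj : ∀ r r' : Γ(X, U), r • e = r' • e → r = r' := fun r r' h => (he U le_rfl).1 (by
    show r • res L le_rfl e = r' • res L le_rfl e
    rw [AmpleLib.res_refl, h])
  have hadd : ∀ s t, a (s + t) = a s + a t := fun s t => hinj _ _ (by
    rw [add_smul, ha, ha, ha]; exact map_add (L.presheaf.map (homOfLE (le_top : U ≤ ⊤)).op).hom s t)
  have hsmul : ∀ (r : Γ(X, ⊤)) s, a (r • s) = X.presheaf.map (homOfLE (le_top : U ≤ ⊤)).op r * a s :=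
    fun r s => hinj _ _ (by rw [ha, AmpleLib.res_smul, mul_smul, ha])
  let g : (ι → k) → X.presheaf.stalk x := fun c => X.presheaf.germ U x hxU (a (comb σ c))
  have hg : ∀ c, x ∉ genSet hL (comb σ c) ↔ g c ∈ IsLocalRing.maximalIdeal (X.presheaf.stalk x) := fun c => by
    rw [genSet_iff hL he _ (ha _) hxU, IsLocalRing.mem_maximalIdeal, mem_nonunits_iff]
  refine ⟨{ carrier := {c | g c ∈ IsLocalRing.maximalIdeal (X.presheaf.stalk x : Type u)}
            add_mem' := ?_, zero_mem' := ?_, smul_mem' := ?_ }, fun c => (hg c).symm⟩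
  · intro c d hc hd
    show g (c + d) ∈ IsLocalRing.maximalIdeal _
    have : g (c + d) = g c + g d := by simp only [g, comb_add, hadd, map_add]
    rw [this]; exact Ideal.add_mem _ hc hd
  · show g 0 ∈ IsLocalRing.maximalIdeal _
    have h0 : g (0 : ι → k) = X.presheaf.germ U x hxU (a ((cst (0 : k) : Γ(X, ⊤)) • comb σ (0 : ι → k))) := by
      rw [cst_zero, zero_smul]
      simp only [g, comb, Pi.zero_apply, cst_zero, zero_smul, Finset.sum_const_zero]
    rw [h0, hsmul, cst_zero, map_zero, zero_mul, map_zero]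
    exact Ideal.zero_mem _
  · intro r c hc
    show g (r • c) ∈ IsLocalRing.maximalIdeal _
    have : g (r • c) = X.presheaf.germ U x hxU (X.presheaf.map (homOfLE (le_top : U ≤ ⊤)).op (cst r)) * g c := by
      simp only [g, comb_smul, hsmul, map_mul]
    rw [this]; exact Ideal.mul_mem_left _ _ hc

variable (k)
variable [IsProper (X ↘ (Spec (CommRingCat.of k)))]

/-- Finitely many non-closed points are missed by every member of a pencil. -/
theorem exists_pencil [Infinite k] (hL : PicF.IsInvertible L) {ι : Type*} [Fintype ι] (σ : ι → Γ(L, ⊤))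
    (hcov : ∀ x : X, ∃ i, x ∈ genSet hL (σ i)) (haff : ∀ i, IsAffineOpen (genSet hL (σ i)))
    {A : Set X} (hA : A.Finite) (hne : ∀ x ∈ A, ¬ IsClosed ({x} : Set X)) :
    ∃ s s' : Γ(L, ⊤), ∀ x ∈ A, x ∈ genSet hL s ∧ ∀ t : k, x ∈ genSet hL (s' - (cst t : Γ(X, ⊤)) • s) := by
  classical
  choose W hW using exists_vanishing (k := k) hL σ
  haveI := hA.to_subtype
  have hproper : ∀ x : A, W x.1 ≠ ⊤ := fun x h => by
    obtain ⟨i, hi⟩ := hcov x.1
    exact ((hW x.1 (Pi.single i 1)).mp (h ▸ Submodule.mem_top)) (by rw [comb_single]; exact hi)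
  obtain ⟨c, hc⟩ : ∃ c : ι → k, ∀ x : A, c ∉ W x.1 :=
    Submodule.exists_forall_notMem_of_forall_ne_top _ hproper
  have hproper' : ∀ x : A, W x.1 ⊔ Submodule.span k {c} ≠ ⊤ := fun x h => by
    obtain ⟨i, hi⟩ := hcov x.1
    have hdec : ∀ v : ι → k, ∃ t : k, v - t • c ∈ W x.1 := fun v => by
      obtain ⟨w, hw, u, hu, rfl⟩ := Submodule.mem_sup.mp (h ▸ Submodule.mem_top : v ∈ W x.1 ⊔ Submodule.span k {c})
      obtain ⟨t, rfl⟩ := Submodule.mem_span_singleton.mp hu
      exact ⟨t, by rw [add_sub_cancel_right]; exact hw⟩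
    obtain ⟨t₀, ht₀⟩ := hdec (Pi.single i 1)
    have ht₀' : t₀ ≠ 0 := fun h0 => by
      rw [h0, zero_smul, sub_zero, hW, comb_single] at ht₀
      exact ht₀ hi
    refine hne x.1 x.2 (NegTwistLib.exists_subsingleton.isClosed_singleton_of_subset_affine k (haff i) fun z hz => ?_)
    by_contra hzi
    obtain ⟨j, hj⟩ := hcov z
    obtain ⟨t, ht⟩ := hdec (Pi.single j 1)
    have hmem : (Pi.single j 1 : ι → k) - (t / t₀) • Pi.single i 1 ∈ W x.1 := by
      have := Submodule.sub_mem _ ht (Submodule.smul_mem _ (t / t₀) ht₀)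
      rwa [smul_sub, smul_smul, div_mul_cancel₀ t ht₀', sub_sub_sub_cancel_right] at this
    set v := (Pi.single j 1 : ι → k) - (t / t₀) • Pi.single i 1
    have hvz : v ∈ W z := (hW z v).mpr fun h' =>
      (hW x.1 v).mp hmem ((specializes_iff_mem_closure.mpr hz).mem_open (genSet hL (comb σ v)).2 h')
    have hiz : (Pi.single i 1 : ι → k) ∈ W z := (hW z _).mpr (by rw [comb_single]; exact hzi)
    have hjz : (Pi.single j 1 : ι → k) ∈ W z := by
      have := Submodule.add_mem _ hvz (Submodule.smul_mem _ (t / t₀) hiz)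
      rwa [sub_add_cancel] at this
    exact (hW z _).mp hjz (by rw [comb_single]; exact hj)
  obtain ⟨d, hd⟩ : ∃ d : ι → k, ∀ x : A, d ∉ W x.1 ⊔ Submodule.span k {c} :=
    Submodule.exists_forall_notMem_of_forall_ne_top _ hproper'
  refine ⟨comb σ c, comb σ d, fun x hx => ⟨not_not.mp fun h => hc ⟨x, hx⟩ ((hW x c).mpr h), fun t => ?_⟩⟩
  have he : comb σ d - (cst t : Γ(X, ⊤)) • comb σ c = comb σ (d - t • c) :=
    sub_eq_iff_eq_add.mpr (by rw [← comb_smul, ← comb_add, sub_add_cancel])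
  rw [he]
  by_contra h
  refine hd ⟨x, hx⟩ ?_
  rw [← sub_add_cancel d (t • c)]
  exact Submodule.add_mem_sup ((hW x _).mpr h) (Submodule.smul_mem _ _ (Submodule.mem_span_singleton_self c))

variable {k}

omit [X.Over (Spec (CommRingCat.of k))] [IsProper (X ↘ (Spec (CommRingCat.of k)))] in
theorem shT_add_left' {A B : X.Modules} {W : X.Opens} (a a' : Γ(A, W)) (b : Γ(B, W)) :
    shT (a + a') b = shT a b + shT a' b := by
  refine Eq.trans ?_ (KFlatLib.shApp_add A B W _ _)
  exact congrArg (KFlatLib.shApp A B W) (TensorProduct.add_tmul _ _ _)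

omit [X.Over (Spec (CommRingCat.of k))] [IsProper (X ↘ (Spec (CommRingCat.of k)))] in
theorem shT_add_right' {A B : X.Modules} {W : X.Opens} (a : Γ(A, W)) (b b' : Γ(B, W)) :
    shT a (b + b') = shT a b + shT a b' := by
  refine Eq.trans ?_ (KFlatLib.shApp_add A B W _ _)
  exact congrArg (KFlatLib.shApp A B W) (TensorProduct.tmul_add _ _ _)

omit [X.Over (Spec (CommRingCat.of k))] [IsProper (X ↘ (Spec (CommRingCat.of k)))] in
theorem shT_smul_left' {A B : X.Modules} {W : X.Opens} (r : Γ(X, W)) (m : Γ(A, W)) (n : Γ(B, W)) :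
    shT (r • m) n = r • shT m n := by
  have := AmpleLib.shT_smul r 1 m n
  rwa [one_smul, mul_one] at this

omit [X.Over (Spec (CommRingCat.of k))] [IsProper (X ↘ (Spec (CommRingCat.of k)))] in
theorem shT_smul_right' {A B : X.Modules} {W : X.Opens} (r : Γ(X, W)) (m : Γ(A, W)) (n : Γ(B, W)) :
    shT m (r • n) = r • shT m n := by
  have := AmpleLib.shT_smul 1 r m n
  rwa [one_smul, one_mul] at this

/-- Multiplication by a section on global sections. -/
def mul (G : X.Modules) (s : Γ(L, ⊤)) : Coh.HH X G 0 →ₗ[k] Coh.HH X (CohB1.tensorMod G L) 0 where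
  toFun z := (DegPullLib.e0 _).symm (shT (DegPullLib.e0 G z) s)
  map_add' a b := by rw [map_add, shT_add_left', map_add]
  map_smul' r z := by
    apply (DegPullLib.e0 (CohB1.tensorMod G L)).injective
    show DegPullLib.e0 _ ((DegPullLib.e0 _).symm (shT (DegPullLib.e0 G
      (HSMul.hSMul (α := Coh.Γtop X) (Coh.toGlobal (X ↘ (Spec (CommRingCat.of k))) r) z)) s)) =
      DegPullLib.e0 _ (HSMul.hSMul (α := Coh.Γtop X) (Coh.toGlobal (X ↘ (Spec (CommRingCat.of k))) r)
        ((DegPullLib.e0 _).symm (shT (DegPullLib.e0 G z) s)))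
    rw [AddEquiv.apply_symm_apply, DegPullLib.e0_smul, DegPullLib.e0_smul, AddEquiv.apply_symm_apply]
    exact shT_smul_left' _ _ _

theorem e0_mul (G : X.Modules) (s : Γ(L, ⊤)) (z : Coh.HH X G 0) :
    DegPullLib.e0 _ (mul (k := k) G s z) = shT (DegPullLib.e0 G z) s :=
  AddEquiv.apply_symm_apply _ _

theorem mul_injective (hL : PicF.IsInvertible L) (G : X.Modules) [Coh.IsQCoh G] (s : Γ(L, ⊤))
    (hs : ∀ x : X, Curv2.IsWeakAssPoint G x → x ∈ genSet hL s) : Function.Injective (mul (k := k) G s) := by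
  rw [injective_iff_map_eq_zero]
  intro z hz
  have h0 : shT (DegPullLib.e0 G z) s = 0 := by rw [← e0_mul (k := k), hz, map_zero]
  apply (DegPullLib.e0 G).injective
  rw [map_zero]
  refine AssPointLib.restrict_injective (genSet hL s) hs ?_
  rw [map_zero]
  refine TopCat.Presheaf.section_ext (F := ⟨G.presheaf, G.isSheaf⟩) (genSet hL s) _ _ fun x hx => ?_
  show G.presheaf.germ (genSet hL s) x hx (res G le_top (DegPullLib.e0 G z)) = G.presheaf.germ (genSet hL s) x hx 0
  rw [map_zero]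
  refine (NegTwistLib.bijective_jmap G (TwistLib.genSet_genOn hL s) hx).1 ?_
  show KFlatLib.stalkTensorLin G L x (_ ⊗ₜ _) = KFlatLib.stalkTensorLin G L x ((0 : G.presheaf.stalk x) ⊗ₜ _)
  rw [TensorProduct.zero_tmul, map_zero, AmpleLib.germ_res, AmpleLib.germ_res,
    KFlatLib.stalkTensorLin_germ G L x (show x ∈ (⊤ : X.Opens) from trivial)]
  exact (congrArg ((CohB1.tensorMod G L).presheaf.germ ⊤ x trivial) h0).trans (map_zero _)

theorem weakAss_tensor {F M : X.Modules} (hM : PicF.IsInvertible M) {x : X}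
    (h : Curv2.IsWeakAssPoint (CohB1.tensorMod F M) x) : Curv2.IsWeakAssPoint F x := by
  obtain ⟨m, hm⟩ := h
  obtain ⟨U, e, hxU, he⟩ := TwistLib.exists_genOn hM x
  have hb := NegTwistLib.bijective_jmap F he hxU
  obtain ⟨a, rfl⟩ := hb.2 m
  refine ⟨a, Eq.trans (congrArg Ideal.radical ?_) hm⟩
  ext r
  simp only [LinearMap.mem_ker, LinearMap.toSpanSingleton_apply]
  have hr : ∀ (r : X.presheaf.stalk x) (b : F.presheaf.stalk x),
      KFlatLib.stalkTensorLin F M x ((r • b) ⊗ₜ[X.presheaf.stalk x] M.presheaf.germ U x hxU e) =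
        r • KFlatLib.stalkTensorLin F M x (b ⊗ₜ[X.presheaf.stalk x] M.presheaf.germ U x hxU e) := fun r b => by
    rw [← TensorProduct.smul_tmul', map_smul]
  constructor
  · intro h0
    refine (hr r a).symm.trans ?_
    rw [h0, TensorProduct.zero_tmul, map_zero]; rfl
  · intro h0
    refine hb.1 (((hr r a).trans h0).trans ?_)
    show _ = KFlatLib.stalkTensorLin F M x ((0 : F.presheaf.stalk x) ⊗ₜ _)
    rw [TensorProduct.zero_tmul, map_zero]; rfl

theorem finrank_add_one_le [IsAlgClosed k] (hL : PicF.IsInvertible L) (G : X.Modules) (hG : Coh.IsCoh G)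
    (s s' : Γ(L, ⊤)) (hs : ∀ x : X, Curv2.IsWeakAssPoint G x → x ∈ genSet hL s ∧ ∀ t : k, x ∈ genSet hL (s' - (cst t : Γ(X, ⊤)) • s))
    (h0 : 1 ≤ Module.finrank k (Coh.HH X (CohB1.tensorMod G L) 0)) :
    Module.finrank k (Coh.HH X G 0) + 1 ≤ Module.finrank k (Coh.HH X (CohB1.tensorMod G L) 0) := by
  haveI := CurvLib.isNoetherian k (X := X)
  haveI : Coh.IsQCoh G := hG.1
  haveI := CurvLib.finite_HH (k := k) hG 0
  haveI := CurvLib.finite_HH (k := k) (SerreVanLib.isCoh_tensor hG hL) 0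
  have hinj := mul_injective (k := k) hL G s fun x hx => (hs x hx).1
  by_contra hlt
  have hle := LinearMap.finrank_le_finrank_of_injective hinj
  have heq : Module.finrank k (Coh.HH X G 0) = Module.finrank k (Coh.HH X (CohB1.tensorMod G L) 0) := by omega
  let e := LinearMap.linearEquivOfInjective (mul (k := k) G s) hinj heq
  haveI : Nontrivial (Coh.HH X G 0) := Module.nontrivial_of_finrank_pos (R := k) (by omega)
  obtain ⟨t, ht⟩ := Module.End.exists_eigenvalue (e.symm.toLinearMap ∘ₗ mul (k := k) G s')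
  obtain ⟨v, hv⟩ := ht.exists_hasEigenvector
  have h1 : e.symm (mul (k := k) G s' v) = t • v := hv.apply_eq_smul
  have h2 : mul (k := k) G s' v = t • mul (k := k) G s v := by
    have := congrArg e h1
    rwa [LinearEquiv.apply_symm_apply, map_smul, LinearMap.linearEquivOfInjective_apply] at this
  refine hv.2 (mul_injective (k := k) hL G (s' - (cst t : Γ(X, ⊤)) • s) (fun x hx => (hs x hx).2 t) ?_)
  rw [map_zero]
  apply (DegPullLib.e0 (CohB1.tensorMod G L)).injective
  rw [map_zero, e0_mul]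
  have h3 : DegPullLib.e0 (CohB1.tensorMod G L) (t • mul (k := k) G s v) =
      (cst t : Γ(X, ⊤)) • shT (DegPullLib.e0 G v) s :=
    (DegPullLib.e0_smul _ _ _).trans (congrArg _ (e0_mul G s v))
  rw [← h2, e0_mul] at h3
  have h4 : shT (DegPullLib.e0 G v) s' = shT (DegPullLib.e0 G v) (s' - (cst t : Γ(X, ⊤)) • s) + (cst t : Γ(X, ⊤)) • shT (DegPullLib.e0 G v) s := by
    rw [← shT_smul_right', ← shT_add_right', sub_add_cancel]
  rw [h3, right_eq_add] at h4
  exact h4

end PencilLib

end
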