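import Groth.Agent.PencilLib.Main
import Groth.Agent.AffBlowLib.Closure
import Groth.Agent.MumfordLib.Induct
import Groth.Agent.SerreVanLib.Main
import Groth.Agent.PicPnLib.Twist
import Groth.Agent.PicPnLib.BaseChange

/-!
# Negative twists on projective space
-/

set_option autoImplicit false
universe u

open CategoryTheory CategoryTheory.Limits AlgebraicGeometry TopologicalSpace

noncomputable section

namespace PencilLib

variable (k : Type u) [Field k] (N : ℕ)

local notation "P" => CohB1.ProjSpace N k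
local notation "O'" => Twist.twistProjSpace N k

theorem exists_tensor_iso (G : (P).Modules) (a b : ℤ) :
    Nonempty (CohB1.tensorMod (CohB1.tensorMod G (O' a)) (O' b) ≅ CohB1.tensorMod G (O' (a + b))) := by
  obtain ⟨t⟩ := PicPnLib.twist_add N k a b
  exact ⟨SerreVanLib.tensorAssoc G _ _ ≪≫ SerreVanLib.tensorCongr G t⟩

theorem exists_zero_iso (G : (P).Modules) : Nonempty (CohB1.tensorMod G (O' 0) ≅ G) :=
  ⟨SerreVanLib.tensorCongr G (PicPnLib.twist_zero N k).some ≪≫ PicPnLib.unitRight G⟩

/-- A twist by `-1` lowers the space of sections. -/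
theorem step [IsAlgClosed k] (F : (P).Modules) (hF : Coh.IsCoh F)
    (hass : ∀ x : P, Curv2.IsAssPoint F x → ¬ IsClosed ({x} : Set (P)))
    : Module.finrank k (Coh.HH (P) (CohB1.tensorMod F (O' (-1))) 0) ≤ Module.finrank k (Coh.HH (P) F 0) - 1 := by
  haveI := MumfordLib.isProper_projSpace (n := N) k
  haveI := CurvLib.isNoetherian k (X := P)
  haveI : Coh.IsQCoh F := hF.1
  have hL : PicF.IsInvertible (O' 1) := PicPnLib.twist_inv N k 1
  let σ : Fin (N + 1) → Γ(O' 1, ⊤) := fun i =>
    Twist.globalOf (CohB1.polyGrading N k) (i := 1) ⟨MvPolynomial.X i, MvPolynomial.isHomogeneous_X k i⟩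
  have hσ : ∀ i, TwistLib.genSet hL (σ i) = Proj.basicOpen (CohB1.polyGrading N k) (MvPolynomial.X i) :=
    fun i => AffBlowLib.genSet_coord N hL i
  have hfin : {x : P | Curv2.IsWeakAssPoint F x}.Finite :=
    (AssPointLib.finite_assPoints hF.2 ⊤ isCompact_univ).subset fun x hx => ⟨trivial, hx⟩
  obtain ⟨s, s', hs⟩ := exists_pencil k hL σ (fun x => by
      simp only [hσ]
      exact Opens.mem_iSup.mp (show x ∈ ⨆ i, Proj.basicOpen (CohB1.polyGrading N k) (MvPolynomial.X i) by
        rw [AffBlowLib.iSup_basicOpen_X]; trivial))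
    (fun i => by rw [hσ]; exact Proj.isAffineOpen_basicOpen _ _ (MvPolynomial.isHomogeneous_X k i) one_pos)
    hfin (fun x hx => hass x ((AssPointLib.assPoint_iff_weak F x).mpr hx))
  let G := CohB1.tensorMod F (O' (-1))
  have hG : Coh.IsCoh G := SerreVanLib.isCoh_tensor hF (PicPnLib.twist_inv N k (-1))
  obtain ⟨e⟩ := exists_tensor_iso k N F (-1) 1
  obtain ⟨e'⟩ := exists_zero_iso k N F
  have he : Module.finrank k (Coh.HH (P) (CohB1.tensorMod G (O' 1)) 0) = Module.finrank k (Coh.HH (P) F 0) :=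
    (CurvLib.hIso (k := k) (e ≪≫ eqToIso (by rw [neg_add_cancel]) ≪≫ e') 0).finrank_eq
  rw [← he]
  have hs' := fun x (hx : Curv2.IsWeakAssPoint G x) => hs x (weakAss_tensor (PicPnLib.twist_inv N k (-1)) hx)
  haveI : Coh.IsQCoh G := hG.1
  haveI := CurvLib.finite_HH (k := k) (SerreVanLib.isCoh_tensor hG hL) 0
  have hle := LinearMap.finrank_le_finrank_of_injective (mul_injective (k := k) hL G s fun x hx => (hs' x hx).1)
  rcases Nat.eq_zero_or_pos (Module.finrank k (Coh.HH (P) (CohB1.tensorMod G (O' 1)) 0)) with h | h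
  · simp only [G] at *; omega
  · have := finrank_add_one_le hL G hG s s' hs' h
    simp only [G] at *
    omega

/-- Negative twists beyond `h⁰` have no sections. -/
theorem finrank_eq_zero [IsAlgClosed k] (F : (P).Modules) (hF : Coh.IsCoh F)
    (hass : ∀ x : P, Curv2.IsAssPoint F x → ¬ IsClosed ({x} : Set (P))) (n : ℕ) :
    Module.finrank k (Coh.HH (P) (CohB1.tensorMod F (O' (-(n : ℤ)))) 0) ≤ Module.finrank k (Coh.HH (P) F 0) - n := by
  haveI := MumfordLib.isProper_projSpace (n := N) k
  haveI := CurvLib.isNoetherian k (X := P)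
  induction n with
  | zero =>
    obtain ⟨e⟩ := exists_zero_iso k N F
    rw [Nat.sub_zero]
    exact le_of_eq ((CurvLib.hIso (k := k) (SerreVanLib.tensorCongr F (eqToIso (by rw [Nat.cast_zero, neg_zero])) ≪≫ e) 0).finrank_eq)
  | succ n ih =>
    let G := CohB1.tensorMod F (O' (-(n : ℤ)))
    have hG : Coh.IsCoh G := SerreVanLib.isCoh_tensor hF (PicPnLib.twist_inv N k _)
    haveI : Coh.IsQCoh G := hG.1
    haveI : Coh.IsQCoh F := hF.1
    obtain ⟨e⟩ := exists_tensor_iso k N F (-(n : ℤ)) (-1)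
    have he : Module.finrank k (Coh.HH (P) (CohB1.tensorMod G (O' (-1))) 0) =
        Module.finrank k (Coh.HH (P) (CohB1.tensorMod F (O' (-((n + 1 : ℕ) : ℤ)))) 0) :=
      (CurvLib.hIso (k := k) (e ≪≫ SerreVanLib.tensorCongr F (eqToIso (by congr 1; push_cast; ring))) 0).finrank_eq
    rw [← he]
    haveI := CurvLib.finite_HH (k := k) hG 0
    haveI := CurvLib.finite_HH (k := k) (SerreVanLib.isCoh_tensor hG (PicPnLib.twist_inv N k (-1))) 0
    have hass' : ∀ x : P, Curv2.IsAssPoint G x → ¬ IsClosed ({x} : Set (P)) := fun x hx =>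
      hass x ((AssPointLib.assPoint_iff_weak F x).mpr
        (weakAss_tensor (PicPnLib.twist_inv N k _) ((AssPointLib.assPoint_iff_weak G x).mp hx)))
    have := step k N G hG hass'
    simp only [G] at *
    omega

end PencilLib

end
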